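import Cfsg.Agent.Fi22Rep78.Defs

/-!
# Kernel checks: the three long relators, and the form of the data
-/

set_option Elab.async false
set_option maxRecDepth 100000

namespace Cfsg.Agent.Fi22Rep78

theorem good_all : (List.range 9).all (fun x => goodB (gm x)) = true ∧ goodB idM = true := by
  decide +kernel

theorem spider : relB [3, 2, 1, 3, 4, 5, 3, 7, 8] 10 = true := by decide +kernel

theorem seven1 : relB [0, 1, 2, 3, 4, 5, 7] 9 = true := by decide +kernel

theorem seven2 : relB [1, 2, 3, 4, 5, 6, 7] 9 = true := by decide +kernel

theorem gm0_ne : eqB (gm 0) idM = false := by decide +kernel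

end Cfsg.Agent.Fi22Rep78
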