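import Cfsg.Agent.Fi22Rep78.Defs

/-!
# Kernel checks: the relators of two letters
-/

set_option Elab.async false
set_option maxRecDepth 100000

namespace Cfsg.Agent.Fi22Rep78

theorem pair00 : relB [0, 0] 1 = true := by decide +kernel

theorem pair01 : relB [0, 1] 3 = true := by decide +kernel

theorem pair02 : relB [0, 2] 2 = true := by decide +kernel

theorem pair03 : relB [0, 3] 2 = true := by decide +kernel

theorem pair04 : relB [0, 4] 2 = true := by decide +kernel

theorem pair05 : relB [0, 5] 2 = true := by decide +kernel

theorem pair06 : relB [0, 6] 2 = true := by decide +kernel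

theorem pair07 : relB [0, 7] 2 = true := by decide +kernel

theorem pair08 : relB [0, 8] 2 = true := by decide +kernel

theorem pair11 : relB [1, 1] 1 = true := by decide +kernel

theorem pair12 : relB [1, 2] 3 = true := by decide +kernel

theorem pair13 : relB [1, 3] 2 = true := by decide +kernel

theorem pair14 : relB [1, 4] 2 = true := by decide +kernel

theorem pair15 : relB [1, 5] 2 = true := by decide +kernel

theorem pair16 : relB [1, 6] 2 = true := by decide +kernel

theorem pair17 : relB [1, 7] 2 = true := by decide +kernel

theorem pair18 : relB [1, 8] 2 = true := by decide +kernel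

theorem pair22 : relB [2, 2] 1 = true := by decide +kernel

theorem pair23 : relB [2, 3] 3 = true := by decide +kernel

theorem pair24 : relB [2, 4] 2 = true := by decide +kernel

theorem pair25 : relB [2, 5] 2 = true := by decide +kernel

theorem pair26 : relB [2, 6] 2 = true := by decide +kernel

theorem pair27 : relB [2, 7] 2 = true := by decide +kernel

theorem pair28 : relB [2, 8] 2 = true := by decide +kernel

end Cfsg.Agent.Fi22Rep78
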