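import Cfsg.Agent.Fi22Rep78.Defs

/-!
# Kernel checks: the relators of two letters
-/

set_option Elab.async false
set_option maxRecDepth 100000

namespace Cfsg.Agent.Fi22Rep78

theorem pair33 : relB [3, 3] 1 = true := by decide +kernel

theorem pair34 : relB [3, 4] 3 = true := by decide +kernel

theorem pair35 : relB [3, 5] 2 = true := by decide +kernel

theorem pair36 : relB [3, 6] 2 = true := by decide +kernel

theorem pair37 : relB [3, 7] 3 = true := by decide +kernel

theorem pair38 : relB [3, 8] 2 = true := by decide +kernel

theorem pair44 : relB [4, 4] 1 = true := by decide +kernel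

theorem pair45 : relB [4, 5] 3 = true := by decide +kernel

theorem pair46 : relB [4, 6] 2 = true := by decide +kernel

theorem pair47 : relB [4, 7] 2 = true := by decide +kernel

theorem pair48 : relB [4, 8] 2 = true := by decide +kernel

theorem pair55 : relB [5, 5] 1 = true := by decide +kernel

theorem pair56 : relB [5, 6] 3 = true := by decide +kernel

theorem pair57 : relB [5, 7] 2 = true := by decide +kernel

theorem pair58 : relB [5, 8] 2 = true := by decide +kernel

theorem pair66 : relB [6, 6] 1 = true := by decide +kernel

theorem pair67 : relB [6, 7] 2 = true := by decide +kernel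

theorem pair68 : relB [6, 8] 2 = true := by decide +kernel

theorem pair77 : relB [7, 7] 1 = true := by decide +kernel

theorem pair78 : relB [7, 8] 3 = true := by decide +kernel

theorem pair88 : relB [8, 8] 1 = true := by decide +kernel

end Cfsg.Agent.Fi22Rep78
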