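import Cfsg.Agent.CosetCert.Basic
import Cfsg.Agent.Fi22Rep78.Data

/-!
# Packed matrices modulo 13

A row of 78 entries is one number with fields of 32 bits.
-/

set_option autoImplicit false

namespace Cfsg.Agent.Fi22Rep78

open Cfsg.Agent.CosetCert

/-- A field. -/
def fieldN (r i : Nat) : Nat := r / 4294967296 ^ i % 4294967296

/-- Adding the multiples of the rows given by the fields of `v`. -/
noncomputable def comb (B : List Nat) (v acc : Nat) : Nat :=
  List.rec (motive := fun _ => Nat → Nat → Nat) (fun _ acc => acc)
    (fun r _ ih v acc => force (Nat.add acc (Nat.mul (Nat.mod v 4294967296) r)) fun a =>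
      force (Nat.div v 4294967296) fun v' => ih v' a)
    B v acc

/-- Fourteen low bits in each of `k` fields. -/
def maskF : Nat → Nat
  | 0 => 0
  | k + 1 => 16383 + 4294967296 * maskF k

/-- The same, evaluated. -/
def mask78 : Nat := 0x3fff00003fff00003fff00003fff00003fff00003fff00003fff00003fff00003fff00003fff00003fff00003fff00003fff00003fff00003fff00003fff00003fff00003fff00003fff00003fff00003fff00003fff00003fff00003fff00003fff00003fff00003fff00003fff00003fff00003fff00003fff00003fff00003fff00003fff00003fff00003fff00003fff00003fff00003fff00003fff00003fff00003fff00003fff00003fff00003fff00003fff00003fff00003fff00003fff00003fff00003fff00003fff00003fff00003fff00003fff00003fff00003fff00003fff00003fff00003fff00003fff00003fff00003fff00003fff00003fff00003fff00003fff00003fff00003fff00003fff00003fff00003fff00003fff00003fff00003fff00003fff00003fff00003fff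

/-- Reducing every field below 16384. -/
noncomputable def red (a : Nat) : Nat :=
  Nat.sub a (Nat.mul 13 (Nat.land (Nat.shiftRight (Nat.mul a 20165) 18) mask78))

/-- The product, computed completely before it is used. -/
noncomputable def mulK {α : Type} (A B : List Nat) (k : List Nat → α) : α :=
  List.rec (motive := fun _ => (List Nat → α) → α) (fun k => k [])
    (fun r _ ih k => force (red (comb B r 0)) fun x => ih fun l => k (x :: l)) A k

/-- Equality of lists. -/
noncomputable def eqB (A B : List Nat) : Bool :=
  List.rec (motive := fun _ => List Nat → Bool) (fun B => B.isEmpty)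
    (fun r _ ih B => Nat.beq (B.headD 0) r && (!B.isEmpty && ih B.tail)) A B

/-- The identity. -/
def idM : List Nat := (List.range 78).map fun i => 4294967296 ^ i

/-- The generators. -/
def gm (x : Nat) : List Nat :=
  [gm0, gm1, gm2, gm3, gm4, gm5, gm6, gm7, gm8].getD x idM

/-- The matrix of a word, applied to `k`. -/
noncomputable def wordK {α : Type} (w : List Nat) (P : List Nat) (k : List Nat → α) : α :=
  List.rec (motive := fun _ => List Nat → α) (fun P => k P)
    (fun x _ ih P => mulK P (gm x) ih) w P

/-- The matrix times a power of another is the identity. -/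
noncomputable def powB (P : List Nat) (m : Nat) (Q : List Nat) : Bool :=
  Nat.rec (motive := fun _ => List Nat → Bool) (fun Q => eqB Q idM)
    (fun _ ih Q => mulK Q P ih) m Q

/-- The power of a word is trivial. -/
noncomputable def relB (w : List Nat) (m : Nat) : Bool :=
  wordK w.tail (gm (w.headD 0)) fun P => powB P (m - 1) P

/-- Reduced rows, 78 of them. -/
noncomputable def goodB (A : List Nat) : Bool :=
  Nat.beq A.length 78 && A.all fun r => Nat.beq (red r) r && Nat.blt r (4294967296 ^ 78) &&
    Nat.beq (Nat.land r mask78) r

end Cfsg.Agent.Fi22Rep78
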