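import Cfsg.Agent.Fi22Rep78.Pairs
import Cfsg.Agent.Fi22Rep78.CheckExtra
import Cfsg.Agent.CosetCert.Fi22Order.Main
import Mathlib.LinearAlgebra.Matrix.GeneralLinearGroup.Defs

/-!
# The presented group Fi22 inside `GL(78, 13)`

Nine packed matrices satisfy the relators; as the group is simple the homomorphism is injective.
-/

set_option autoImplicit false
set_option maxRecDepth 100000

namespace Cfsg.Agent.Fi22Rep78

open Cfsg.Agent.CosetCert Cfsg.Spor

/-- Packing a function. -/
def pk : Nat → (Nat → Nat) → Nat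
  | 0, _ => 0
  | k + 1, f => f 0 + 4294967296 * pk k fun i => f (i + 1)

theorem pk_add : ∀ (k : Nat) (f g : Nat → Nat), pk k f + pk k g = pk k fun i => f i + g i
  | 0, _, _ => rfl
  | k + 1, f, g => by simp only [pk, ← pk_add k]; ring

theorem pk_mul : ∀ (k c : Nat) (f : Nat → Nat), c * pk k f = pk k fun i => c * f i
  | 0, _, _ => by simp [pk]
  | k + 1, c, f => by simp only [pk, ← pk_mul k]; ring

theorem pk_zero : ∀ k : Nat, pk k (fun _ => 0) = 0
  | 0 => rfl
  | k + 1 => by simp [pk, pk_zero k]

theorem pk_congr : ∀ (k : Nat) {f g : Nat → Nat}, (∀ i < k, f i = g i) → pk k f = pk k g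
  | 0, _, _, _ => rfl
  | k + 1, _, _, h => by
    simp only [pk]
    rw [h 0 (by omega), pk_congr k fun i hi => h (i + 1) (by omega)]

theorem pk_sum (k : Nat) (f : Nat → Nat → Nat) : ∀ n : Nat,
    ∑ l ∈ Finset.range n, pk k (f l) = pk k fun i => ∑ l ∈ Finset.range n, f l i
  | 0 => by simp [pk_zero]
  | n + 1 => by simp only [Finset.sum_range_succ, pk_sum k f n, pk_add]

theorem field_succ (a i : Nat) : fieldN a (i + 1) = fieldN (a / 4294967296) i := by
  rw [fieldN, fieldN, pow_succ', Nat.div_div_eq_div_mul]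

theorem field_pk : ∀ (k : Nat) (f : Nat → Nat), (∀ i < k, f i < 4294967296) →
    ∀ i < k, fieldN (pk k f) i = f i
  | 0, _, _, i, hi => absurd hi (Nat.not_lt_zero i)
  | k + 1, f, h, 0, _ => by
    have := h 0 (by omega)
    simp only [fieldN, pk, pow_zero, Nat.div_one]
    omega
  | k + 1, f, h, i + 1, hi => by
    have h0 := h 0 (by omega)
    rw [field_succ, pk, show (f 0 + 4294967296 * pk k fun i => f (i + 1)) / 4294967296 =
      pk k fun i => f (i + 1) by omega]
    exact field_pk k _ (fun j hj => h _ (by omega)) i (by omega)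

theorem pk_field : ∀ (k a : Nat), a < 4294967296 ^ k → pk k (fieldN a) = a
  | 0, a, h => by simp [pk] at h ⊢; omega
  | k + 1, a, h => by
    have ha : a / 4294967296 < 4294967296 ^ k := by
      rw [Nat.div_lt_iff_lt_mul (by norm_num), ← pow_succ]
      exact h
    simp only [pk, field_succ, pk_field k _ ha]
    simp only [fieldN, pow_zero, Nat.div_one]
    omega

theorem land_mask : ∀ (k : Nat) (g : Nat → Nat), (∀ i < k, g i < 4294967296) →
    Nat.land (Nat.shiftRight (pk k g) 18) (maskF k) = pk k fun i => g i / 262144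
  | 0, _, _ => by simp [pk, maskF]
  | k + 1, g, h => by
    have h0 := h 0 (by omega)
    have ih := land_mask k (fun i => g (i + 1)) fun i hi => h _ (by omega)
    change (pk k (fun i => g (i + 1)) >>> 18) &&& maskF k = _ at ih
    show (pk (k + 1) g >>> 18) &&& maskF (k + 1) = _
    rw [Nat.shiftRight_eq_div_pow] at ih ⊢
    simp only [pk, maskF]
    generalize pk k (fun i => g (i + 1)) = P at ih ⊢
    rw [← ih]
    generalize maskF k = m
    norm_num
    generalize hx : (g 0 + 4294967296 * P) / 262144 = x
    have e1 : (x &&& (16383 + 4294967296 * m)) % 2 ^ 32 = g 0 / 262144 := by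
      rw [Nat.and_mod_two_pow, show (16383 + 4294967296 * m) % 2 ^ 32 = 2 ^ 14 - 1 by omega,
        Nat.and_two_pow_sub_one_eq_mod]
      omega
    have e2 : (x &&& (16383 + 4294967296 * m)) / 2 ^ 32 = P / 262144 &&& m := by
      rw [Nat.and_div_two_pow, show (16383 + 4294967296 * m) / 2 ^ 32 = m by omega,
        show x / 2 ^ 32 = P / 262144 by omega]
    omega

theorem mask78_eq : mask78 = maskF 78 := by decide +kernel

theorem red_pk (f : Nat → Nat) (h : ∀ i < 78, f i < 16384) :
    red (pk 78 f) = pk 78 fun i => f i % 13 := by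
  have e1 : Nat.mul (pk 78 f) 20165 = pk 78 fun i => 20165 * f i := by
    rw [← pk_mul]; exact Nat.mul_comm _ _
  rw [red, e1, mask78_eq, land_mask 78 _ fun i hi => by have := h i hi; omega]
  show pk 78 f - 13 * pk 78 _ = _
  rw [pk_mul]
  have e2 : pk 78 f = pk 78 (fun i => f i % 13) + pk 78 fun i => 13 * (20165 * f i / 262144) := by
    rw [pk_add]
    refine pk_congr 78 fun i hi => ?_
    have := h i hi
    have hb : f i % 13 ≤ 12 := by omega
    omega
  omega

attribute [local irreducible] pk maskF

/-- A good matrix: 78 rows of 78 reduced fields. -/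
def Good (A : List Nat) : Prop :=
  A.length = 78 ∧ ∀ r ∈ A, ∃ f : Nat → Nat, (∀ j, f j < 13) ∧ r = pk 78 f

/-- The check of a good matrix. -/
noncomputable def goodC (A : List Nat) : Bool :=
  Nat.beq A.length 78 && A.all fun r => Nat.blt r (4294967296 ^ 78) &&
    allFrom (fun j => Nat.blt (fieldN r j) 13) 0 78

theorem good_of_check {A : List Nat} (h : goodC A = true) : Good A := by
  simp only [goodC, Bool.and_eq_true, List.all_eq_true, Nat.blt_eq] at h
  refine ⟨Nat.eq_of_beq_eq_true h.1, fun r hr => ⟨fun j => if j < 78 then fieldN r j else 0,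
    fun j => ?_, ?_⟩⟩
  · show (if j < 78 then fieldN r j else 0) < 13
    split
    · exact Nat.blt_eq.mp ((allFrom_iff _ _ _).1 (h.2 r hr).2 j (Nat.zero_le _) (by omega))
    · norm_num
  · conv_lhs => rw [← pk_field 78 r (h.2 r hr).1]
    exact pk_congr 78 fun j hj => by rw [if_pos hj]

/-- The matrix of a list of rows. -/
def toMat (A : List Nat) : Matrix (Fin 78) (Fin 78) (ZMod 13) :=
  Matrix.of fun i j => ((fieldN (A.getD i 0) j : ℕ) : ZMod 13)

theorem comb_eq : ∀ (B : List Nat) (v acc : Nat),
    comb B v acc = acc + ∑ l ∈ Finset.range B.length, fieldN v l * B.getD l 0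
  | [], _, _ => by simp [comb]
  | r :: B, v, acc => by
    show force (Nat.add acc (Nat.mul (Nat.mod v 4294967296) r))
      (fun a => force (Nat.div v 4294967296) fun v' => comb B v' a) = _
    rw [force_eq, force_eq, comb_eq B, List.length_cons, Finset.sum_range_succ']
    simp only [field_succ, List.getD_cons_succ, List.getD_cons_zero]
    simp only [fieldN, pow_zero, Nat.div_one]
    show Nat.add acc (Nat.mul (Nat.mod v 4294967296) r) + _ = _
    simp only [Nat.add_eq, Nat.mul_eq, show Nat.mod v 4294967296 = v % 4294967296 from rfl,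
      show Nat.div v 4294967296 = v / 4294967296 from rfl]
    ring

theorem mulK_eq {α : Type} : ∀ (A B : List Nat) (k : List Nat → α),
    mulK A B k = k (A.map fun r => red (comb B r 0))
  | [], _, _ => rfl
  | r :: A, B, k => by
    show force (red (comb B r 0)) (fun x => mulK A B fun l => k (x :: l)) = _
    rw [force_eq, mulK_eq A B]
    rfl

theorem mul_spec {A B : List Nat} (hA : Good A) (hB : Good B) :
    Good (A.map fun r => red (comb B r 0)) ∧
      toMat (A.map fun r => red (comb B r 0)) = toMat A * toMat B := by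
  obtain ⟨hAl, hA⟩ := hA
  obtain ⟨hBl, hB⟩ := hB
  have hBf : ∀ l, l < 78 → ∃ f : Nat → Nat, (∀ j, f j < 13) ∧ B.getD l 0 = pk 78 f := by
    intro l hl
    rw [List.getD_eq_getElem _ _ (hBl.symm ▸ hl)]
    exact hB _ (List.getElem_mem _)
  choose F hF13 hFeq using hBf
  let F' : Nat → Nat → Nat := fun l j => if h : l < 78 then F l h j else 0
  have key : ∀ r ∈ A, red (comb B r 0) =
      pk 78 (fun j => (∑ l ∈ Finset.range 78, fieldN r l * F' l j) % 13) := by
    intro r hr
    obtain ⟨f, hf, hfr⟩ := hA r hr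
    rw [hfr]
    have e : comb B (pk 78 f) 0 =
        pk 78 (fun j => ∑ l ∈ Finset.range 78, fieldN (pk 78 f) l * F' l j) := by
      rw [comb_eq, hBl, Nat.zero_add, ← pk_sum]
      refine Finset.sum_congr rfl fun l hl => ?_
      have hl' := Finset.mem_range.1 hl
      rw [← pk_mul, hFeq l hl']
      congr 1
      exact pk_congr 78 fun j _ => by simp [F', hl']
    rw [e, red_pk]
    intro j _
    calc (∑ l ∈ Finset.range 78, fieldN (pk 78 f) l * F' l j) ≤ ∑ l ∈ Finset.range 78, 144 := by
          refine Finset.sum_le_sum fun l hl => ?_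
          have hl' := Finset.mem_range.1 hl
          rw [field_pk 78 f (fun i _ => (hf i).trans (by norm_num)) l hl']
          have h1 := hf l
          have h2 : F' l j ≤ 12 := by
            simp only [F', dif_pos hl']
            have := hF13 l hl' j
            omega
          calc f l * F' l j ≤ 12 * 12 := Nat.mul_le_mul (by omega) h2
            _ = 144 := by norm_num
      _ < 16384 := by simp
  refine ⟨⟨by simpa using hAl, fun x hx => ?_⟩, ?_⟩
  · obtain ⟨r, hr, rfl⟩ := List.mem_map.1 hx
    exact ⟨_, fun j => Nat.mod_lt _ (by norm_num), key r hr⟩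
  ext i j
  have hi : (i : Nat) < A.length := hAl.symm ▸ i.2
  rw [Matrix.mul_apply]
  simp only [toMat, Matrix.of_apply]
  rw [List.getD_eq_getElem _ _ (by simpa using hi), List.getElem_map, key _ (List.getElem_mem _),
    field_pk 78 _ (fun l _ => (Nat.mod_lt _ (by norm_num)).trans (by norm_num)) j j.2,
    ZMod.natCast_mod, Nat.cast_sum, Finset.sum_range]
  refine Finset.sum_congr rfl fun l _ => ?_
  rw [Nat.cast_mul, List.getD_eq_getElem _ _ hi]
  congr 1
  rw [hFeq l l.2, field_pk 78 _ (fun m _ => (hF13 l l.2 m).trans (by norm_num)) j j.2]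
  simp [F', l.2]

theorem gm_good : (List.range 10).all (fun x => goodC (gm x)) = true := by decide +kernel

theorem good_gm (x : Nat) : Good (gm x) := by
  by_cases hx : x < 10
  · exact good_of_check (List.all_eq_true.1 gm_good x (List.mem_range.2 hx))
  · have h : gm x = gm 9 := by
      rw [gm, List.getD_eq_default _ _ (by simp; omega)]
      rfl
    rw [h]
    exact good_of_check (List.all_eq_true.1 gm_good 9 (List.mem_range.2 (by norm_num)))

/-- The matrix of a number. -/
noncomputable def M (x : Nat) : Matrix (Fin 78) (Fin 78) (ZMod 13) := toMat (gm x)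

theorem wordK_spec {α : Type} : ∀ (w : List Nat) (P : List Nat) (k : List Nat → α), Good P →
    ∃ Q, Good Q ∧ toMat Q = toMat P * (w.map M).prod ∧ wordK w P k = k Q
  | [], P, k, h => ⟨P, h, by simp, rfl⟩
  | x :: w, P, k, h => by
    obtain ⟨h1, h2⟩ := mul_spec h (good_gm x)
    obtain ⟨Q, hQ, hQm, hQk⟩ := wordK_spec w _ k h1
    refine ⟨Q, hQ, by rw [hQm, h2, List.map_cons, List.prod_cons, mul_assoc]; rfl, ?_⟩
    show mulK P (gm x) (fun P' => wordK w P' k) = _
    rw [mulK_eq]
    exact hQk

theorem eqB_spec : ∀ (A B : List Nat), eqB A B = true → B = A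
  | [], B, h => List.isEmpty_iff.1 h
  | r :: A, B, h => by
    change (Nat.beq (B.headD 0) r && (!B.isEmpty && eqB A B.tail)) = true at h
    simp only [Bool.and_eq_true, Bool.not_eq_true'] at h
    cases B with
    | nil => simp at h
    | cons b B => rw [eqB_spec A B h.2.2, show b = r from Nat.eq_of_beq_eq_true h.1]

theorem idM_check :
    allFrom (fun i => allFrom (fun j =>
      Nat.beq (fieldN (idM.getD i 0) j) (cond (Nat.beq i j) 1 0)) 0 78) 0 78 = true := by
  decide +kernel

theorem toMat_idM : toMat idM = 1 := by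
  ext i j
  have h := Nat.eq_of_beq_eq_true ((allFrom_iff _ _ _).1
    ((allFrom_iff _ _ _).1 idM_check i (Nat.zero_le _) (by have := i.2; omega)) j (Nat.zero_le _)
      (by have := j.2; omega))
  simp only [toMat, Matrix.of_apply]
  rw [h, Matrix.one_apply]
  by_cases hij : i = j
  · subst hij; simp
  · rw [if_neg hij, show Nat.beq (i : Nat) (j : Nat) = false from by
      rw [← Bool.not_eq_true, Nat.beq_eq]; exact fun e => hij (Fin.ext e)]
    simp

theorem powB_spec : ∀ (m : Nat) (P Q : List Nat), Good P → Good Q → powB P m Q = true →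
    toMat Q * toMat P ^ m = 1
  | 0, P, Q, _, _, h => by
    rw [pow_zero, mul_one, ← toMat_idM, ← eqB_spec Q idM h]
  | m + 1, P, Q, hP, hQ, h => by
    obtain ⟨h1, h2⟩ := mul_spec hQ hP
    change mulK Q P (fun Q' => powB P m Q') = true at h
    rw [mulK_eq] at h
    rw [pow_succ', ← mul_assoc, ← h2]
    exact powB_spec m P _ hP h1 h

theorem rel_spec {x : Nat} {w : List Nat} {m : Nat} (h : relB (x :: w) (m + 1) = true) :
    ((x :: w).map M).prod ^ (m + 1) = 1 := by
  obtain ⟨P, hP, hPm, hPk⟩ := wordK_spec w (gm x) (fun P => powB P m P) (good_gm x)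
  change wordK w (gm x) (fun P => powB P m P) = true at h
  rw [hPk] at h
  have h2 := powB_spec m P P hP hP h
  rw [← pow_succ', hPm] at h2
  rw [List.map_cons, List.prod_cons]
  exact h2

theorem M_sq {x : Nat} (h : (x, x, 1) ∈ pairsL) : M x * M x = 1 := by
  simpa using rel_spec (m := 0) (pairs_ok _ h)

/-- The number of a letter. -/
def num : Fi22.Gen → Nat
  | .a => 0
  | .b => 1
  | .c => 2
  | .d => 3
  | .e => 4
  | .f => 5
  | .g => 6
  | .h => 7
  | .i => 8

theorem num_diag (a : Fi22.Gen) : (num a, num a, 1) ∈ pairsL := by cases a <;> decide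

/-- The invertible matrix of a letter. -/
noncomputable def unit (a : Fi22.Gen) : GL (Fin 78) (ZMod 13) :=
  ⟨M (num a), M (num a), M_sq (num_diag a), M_sq (num_diag a)⟩

theorem label_mem (a b : Fi22.Gen) :
    0 < coxLabel Fi22.edges a b ∧ ((num a, num b, coxLabel Fi22.edges a b) ∈ pairsL ∨
      (num b, num a, coxLabel Fi22.edges a b) ∈ pairsL) := by
  cases a <;> cases b <;> decide +kernel

theorem unit_sq (a : Fi22.Gen) : unit a * unit a = 1 := Units.ext (M_sq (num_diag a))

theorem pair_rel (a b : Fi22.Gen) : (unit a * unit b) ^ coxLabel Fi22.edges a b = 1 := by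
  obtain ⟨hpos, h⟩ := label_mem a b
  obtain ⟨m, hm⟩ : ∃ m, coxLabel Fi22.edges a b = m + 1 := ⟨_, (Nat.sub_add_cancel hpos).symm⟩
  rw [hm] at h ⊢
  have key : ∀ c d : Fi22.Gen, (num c, num d, m + 1) ∈ pairsL → (unit c * unit d) ^ (m + 1) = 1 := by
    intro c d hcd
    apply Units.ext
    rw [Units.val_pow_eq_pow_val, Units.val_mul, Units.val_one]
    simpa [unit] using rel_spec (pairs_ok _ hcd)
  rcases h with h | h
  · exact key a b h
  · have e : unit a * unit b = unit a * (unit b * unit a) * (unit a)⁻¹ := by group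
    rw [e, conj_pow, key b a h]
    group

theorem exists_embedding : ∃ f : Fi22 →* GL (Fin 78) (ZMod 13), Function.Injective f := by
  have hr : ∀ r ∈ coxRelators Fi22.edges ∪ {r | r ∈ Fi22.extra}, FreeGroup.lift unit r = 1 := by
    rintro r (⟨a, -, b, -, rfl⟩ | hr)
    · rw [map_pow, map_mul, FreeGroup.lift_apply_of, FreeGroup.lift_apply_of]
      exact pair_rel a b
    · simp only [Set.mem_ofPred_eq, Fi22.extra, List.mem_cons, List.not_mem_nil, or_false] at hr
      rcases hr with rfl | rfl | rfl <;> apply Units.ext <;>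
        simp only [map_pow, map_mul, FreeGroup.lift_apply_of, Units.val_pow_eq_pow_val,
          Units.val_mul, Units.val_one]
      · simpa [mul_assoc, num, unit] using rel_spec spider
      · simpa [mul_assoc, num, unit] using rel_spec seven1
      · simpa [mul_assoc, num, unit] using rel_spec seven2
  let f : Fi22 →* GL (Fin 78) (ZMod 13) := PresentedGroup.toGroup hr
  have hsimple : IsSimpleGroup Fi22 := Fi22Order.order_and_simple.1
  refine ⟨f, ?_⟩
  rcases f.normal_ker.eq_bot_or_eq_top with h | h
  · exact (MonoidHom.ker_eq_bot_iff _).1 h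
  exfalso
  have h1 : unit .a = 1 :=
    (PresentedGroup.toGroup.of hr).symm.trans
      (MonoidHom.mem_ker.1 (h ▸ Subgroup.mem_top (PresentedGroup.of Fi22.Gen.a)))
  have h2 : toMat (gm 0) = toMat idM := (congrArg Units.val h1).trans toMat_idM.symm
  have hne : fieldN ((gm 0).getD 2 0) 2 % 13 ≠ fieldN (idM.getD 2 0) 2 % 13 := by decide +kernel
  refine hne ?_
  have := congrFun (congrFun h2 2) 2
  simp only [toMat, Matrix.of_apply] at this
  exact (ZMod.natCast_eq_natCast_iff' _ _ _).1 this

end Cfsg.Agent.Fi22Rep78
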