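import Cfsg.Agent.Fi22Rep78.CheckPairsA
import Cfsg.Agent.Fi22Rep78.CheckPairsB

/-!
# The relators of two letters, collected
-/

set_option autoImplicit false
set_option maxRecDepth 100000

namespace Cfsg.Agent.Fi22Rep78

/-- The pairs with their labels. -/
def pairsL : List (Nat × Nat × Nat) :=
  [(0, 0, 1),
    (0, 1, 3),
    (0, 2, 2),
    (0, 3, 2),
    (0, 4, 2),
    (0, 5, 2),
    (0, 6, 2),
    (0, 7, 2),
    (0, 8, 2),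
    (1, 1, 1),
    (1, 2, 3),
    (1, 3, 2),
    (1, 4, 2),
    (1, 5, 2),
    (1, 6, 2),
    (1, 7, 2),
    (1, 8, 2),
    (2, 2, 1),
    (2, 3, 3),
    (2, 4, 2),
    (2, 5, 2),
    (2, 6, 2),
    (2, 7, 2),
    (2, 8, 2),
    (3, 3, 1),
    (3, 4, 3),
    (3, 5, 2),
    (3, 6, 2),
    (3, 7, 3),
    (3, 8, 2),
    (4, 4, 1),
    (4, 5, 3),
    (4, 6, 2),
    (4, 7, 2),
    (4, 8, 2),
    (5, 5, 1),
    (5, 6, 3),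
    (5, 7, 2),
    (5, 8, 2),
    (6, 6, 1),
    (6, 7, 2),
    (6, 8, 2),
    (7, 7, 1),
    (7, 8, 3),
    (8, 8, 1)]

theorem pairs_ok : ∀ t ∈ pairsL, relB [t.1, t.2.1] t.2.2 = true :=
  List.forall_mem_cons.2 ⟨pair00, (List.forall_mem_cons.2 ⟨pair01, (List.forall_mem_cons.2 ⟨pair02, (List.forall_mem_cons.2 ⟨pair03, (List.forall_mem_cons.2 ⟨pair04, (List.forall_mem_cons.2 ⟨pair05, (List.forall_mem_cons.2 ⟨pair06, (List.forall_mem_cons.2 ⟨pair07, (List.forall_mem_cons.2 ⟨pair08, (List.forall_mem_cons.2 ⟨pair11, (List.forall_mem_cons.2 ⟨pair12, (List.forall_mem_cons.2 ⟨pair13, (List.forall_mem_cons.2 ⟨pair14, (List.forall_mem_cons.2 ⟨pair15, (List.forall_mem_cons.2 ⟨pair16, (List.forall_mem_cons.2 ⟨pair17, (List.forall_mem_cons.2 ⟨pair18, (List.forall_mem_cons.2 ⟨pair22, (List.forall_mem_cons.2 ⟨pair23, (List.forall_mem_cons.2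 ⟨pair24, (List.forall_mem_cons.2 ⟨pair25, (List.forall_mem_cons.2 ⟨pair26, (List.forall_mem_cons.2 ⟨pair27, (List.forall_mem_cons.2 ⟨pair28, (List.forall_mem_cons.2 ⟨pair33, (List.forall_mem_cons.2 ⟨pair34, (List.forall_mem_cons.2 ⟨pair35, (List.forall_mem_cons.2 ⟨pair36, (List.forall_mem_cons.2 ⟨pair37, (List.forall_mem_cons.2 ⟨pair38, (List.forall_mem_cons.2 ⟨pair44, (List.forall_mem_cons.2 ⟨pair45, (List.forall_mem_cons.2 ⟨pair46, (List.forall_mem_cons.2 ⟨pair47, (List.forall_mem_cons.2 ⟨pair48, (List.forall_mem_cons.2 ⟨pair55, (List.forall_mem_cons.2 ⟨pair56, (List.forall_mem_cons.2 ⟨pair57, (List.forall_mem_cons.2 ⟨pair58, (List.forall_mem_cons.2 ⟨pair66, (List.forall_mem_cons.2 ⟨pair67, (List.forall_mem_cons.2 ⟨pair68, (List.forall_mem_cons.2 ⟨pair77, (List.forall_mem_cons.2 ⟨pair78, (List.forall_mem_cons.2 ⟨pair88, (List.forall_mem_nil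 _)⟩)⟩)⟩)⟩)⟩)⟩)⟩)⟩)⟩)⟩)⟩)⟩)⟩)⟩)⟩)⟩)⟩)⟩)⟩)⟩)⟩)⟩)⟩)⟩)⟩)⟩)⟩)⟩)⟩)⟩)⟩)⟩)⟩)⟩)⟩)⟩)⟩)⟩)⟩)⟩)⟩)⟩)⟩)⟩)⟩

end Cfsg.Agent.Fi22Rep78
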